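import Mathlib
import Groth.Prelude.Def_Smoothing
import Groth.Agent.Hensel.SmoothQuotientLift

/-!
Lifting ind-smoothness along nilpotent ideals.
-/

set_option autoImplicit false
set_option linter.style.haveILetI false
set_option linter.unusedSimpArgs false

universe u

namespace Groth.Agent.IndSmoothLift

open MvPolynomial TensorProduct

variable {R Λ : Type u} [CommRing R] [CommRing Λ] [Algebra R Λ]

theorem exists_sum_of_mem_map {B : Type u} [CommRing B] [Algebra R B] (I : Ideal R) (x : B)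
    (hx : x ∈ I.map (algebraMap R B)) :
    ∃ (n : ℕ) (r : Fin n → R) (b : Fin n → B), (∀ t, r t ∈ I) ∧ x = ∑ t, r t • b t := by
  induction hx using Submodule.span_induction with
  | mem x hx =>
    obtain ⟨a, ha, rfl⟩ := hx
    exact ⟨1, fun _ => a, fun _ => 1, fun _ => ha, by simp [Algebra.smul_def]⟩
  | zero => exact ⟨0, Fin.elim0, Fin.elim0, fun t => t.elim0, by simp⟩
  | add x y _ _ hx hy =>
    obtain ⟨n, r, b, hr, rfl⟩ := hx
    obtain ⟨m, r', b', hr', rfl⟩ := hy
    refine ⟨n + m, Fin.append r r', Fin.append b b', fun t => ?_, by simp [Fin.sum_univ_add]⟩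
    induction t using Fin.addCases with
    | left t => simpa using hr t
    | right t => simpa using hr' t
  | smul c x _ hx =>
    obtain ⟨n, r, b, hr, rfl⟩ := hx
    exact ⟨n, r, fun t => c * b t, hr, by
      rw [smul_eq_mul, Finset.mul_sum]
      exact Finset.sum_congr rfl fun t _ => mul_smul_comm _ _ _⟩

theorem map_mem_map {B C : Type u} [CommRing B] [Algebra R B] [CommRing C] [Algebra R C] (I : Ideal R)
    (α : B →ₐ[R] C) {x : B} (hx : x ∈ I.map (algebraMap R B)) : α x ∈ I.map (algebraMap R C) := by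
  have h := Ideal.mem_map_of_mem α.toRingHom hx
  rw [Ideal.map_map] at h
  rwa [show α.toRingHom.comp (algebraMap R B) = algebraMap R C from α.comp_algebraMap] at h

theorem map_mul_eq_zero {B : Type u} [CommRing B] [Algebra R B] (I : Ideal R) (hI : I ^ 2 = ⊥) {x y : B}
    (hx : x ∈ I.map (algebraMap R B)) (hy : y ∈ I.map (algebraMap R B)) : x * y = 0 := by
  have h := Ideal.mul_mem_mul hx hy
  rwa [← sq, ← Ideal.map_pow, hI, Ideal.map_bot, Ideal.mem_bot] at h

/-- A finitely presented algebra over `Λ` comes, modulo a square zero ideal, from a smooth algebra. -/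
theorem exists_smooth_mod (I : Ideal R) (hI : I ^ 2 = ⊥)
    (h : Smoothing.IndSmooth (R ⧸ I) (Λ ⧸ I.map (algebraMap R Λ)))
    {A : Type u} [CommRing A] [Algebra R A] [Algebra.FinitePresentation R A] (φ : A →ₐ[R] Λ) :
    ∃ (B : Type u) (_ : CommRing B) (_ : Algebra R B), Algebra.Smooth R B ∧
      ∃ (γ : A →ₐ[R] B ⧸ I.map (algebraMap R B)) (β : B →ₐ[R] Λ),
        ∀ (a : A) (b : B), Ideal.Quotient.mk _ b = γ a → β b - φ a ∈ I.map (algebraMap R Λ) := by
  let f₀ : (R ⧸ I) ⊗[R] A →ₐ[R ⧸ I] Λ ⧸ I.map (algebraMap R Λ) :=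
    Algebra.TensorProduct.lift (Algebra.ofId _ _) ((Ideal.Quotient.mkₐ R _).comp φ) fun _ _ => Commute.all _ _
  obtain ⟨B₀, _, _, hB₀, g₀, h₀, hgh⟩ := h ((R ⧸ I) ⊗[R] A) inferInstance f₀
  haveI := hB₀
  obtain ⟨B, _, _, hB, ⟨e⟩⟩ := Groth.Agent.Hensel.exists_smooth_lift_quotient R I B₀
  haveI := hB
  let γ : A →ₐ[R] B ⧸ I.map (algebraMap R B) :=
    ((e.symm.toAlgHom.comp g₀).restrictScalars R).comp Algebra.TensorProduct.includeRight
  let β₀ : B →ₐ[R] Λ ⧸ I.map (algebraMap R Λ) :=
    ((h₀.comp e.toAlgHom).restrictScalars R).comp (Ideal.Quotient.mkₐ R _)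
  obtain ⟨β, hβ⟩ := Algebra.FormallySmooth.comp_surjective R B (I.map (algebraMap R Λ))
    (by rw [← Ideal.map_pow, hI, Ideal.map_bot]) β₀
  refine ⟨B, inferInstance, inferInstance, hB, γ, β, fun a b hab => ?_⟩
  have h1 : Ideal.Quotient.mk (I.map (algebraMap R Λ)) (β b) = β₀ b := AlgHom.congr_fun hβ b
  have h2 : β₀ b = Ideal.Quotient.mk (I.map (algebraMap R Λ)) (φ a) := by
    change h₀ (e (Ideal.Quotient.mk _ b)) = _
    rw [hab]
    change h₀ (e (e.symm (g₀ ((1 : R ⧸ I) ⊗ₜ a)))) = _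
    rw [e.apply_symm_apply, ← AlgHom.comp_apply, hgh]
    simp [f₀]
  exact Ideal.Quotient.eq.mp (h1.trans h2)

theorem lift_once (I : Ideal R) (hI : I ^ 2 = ⊥)
    (h : Smoothing.IndSmooth (R ⧸ I) (Λ ⧸ I.map (algebraMap R Λ)))
    {A : Type u} [CommRing A] [Algebra R A] [Algebra.FinitePresentation R A] (φ : A →ₐ[R] Λ) :
    ∃ (B : Type u) (_ : CommRing B) (_ : Algebra R B), Algebra.Smooth R B ∧
      ∃ J : Ideal B, J ≤ I.map (algebraMap R B) ∧ J.FG ∧
        ∃ (g : A →ₐ[R] B ⧸ J) (k : (B ⧸ J) →ₐ[R] Λ), k.comp g = φ := by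
  classical
  obtain ⟨B, _, _, hB, γ, β, hcomp⟩ := exists_smooth_mod I hI h φ
  haveI := hB
  obtain ⟨n, π, hπ, hker⟩ := (inferInstance : Algebra.FinitePresentation R A).out
  obtain ⟨L, f, hf⟩ := Submodule.fg_iff_exists_fin_generating_family.mp hker
  choose b hb using fun i => Ideal.Quotient.mk_surjective (γ (π (X i)))
  choose m r lam hr hlam using fun i => exists_sum_of_mem_map I _ (hcomp _ _ (hb i))
  let σ := Σ i, Fin (m i)
  let B' := MvPolynomial σ B
  haveI : Algebra.FinitePresentation B B' := inferInstanceAs (Algebra.FinitePresentation B (MvPolynomial σ B))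
  haveI : Algebra.Smooth B B' := { formallySmooth := inferInstance, finitePresentation := inferInstance }
  haveI : Algebra.Smooth R B' := Algebra.Smooth.comp R B B'
  let η : MvPolynomial (Fin n) R →ₐ[R] B' := aeval fun i => C (b i) - ∑ t, r i t • X (⟨i, t⟩ : σ)
  let β' : B' →ₐ[R] Λ :=
    { toRingHom := eval₂Hom β.toRingHom fun s => lam s.1 s.2
      commutes' := fun x => by
        change eval₂Hom β.toRingHom _ (algebraMap R B' x) = _
        rw [IsScalarTower.algebraMap_apply R B B', MvPolynomial.algebraMap_eq, eval₂Hom_C]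
        exact β.commutes x }
  have hβη : β'.comp η = φ.comp π := MvPolynomial.algHom_ext fun i => by
    simp only [η, AlgHom.comp_apply, aeval_X, map_sub, map_sum, map_smul]
    have e1 : ∀ t, β' (X (⟨i, t⟩ : σ)) = lam i t := fun t => eval₂_X _ _ _
    have e2 : β' (C (b i)) = β (b i) := eval₂_C _ _ _
    simp only [e1, e2, ← hlam i, sub_sub_cancel]
  let J : Ideal B' := Ideal.span (Set.range fun l => η (f l))
  let q : B →ₐ[R] B' := IsScalarTower.toAlgHom R B B'
  let qI : (B ⧸ I.map (algebraMap R B)) →ₐ[R] B' ⧸ I.map (algebraMap R B') :=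
    Ideal.Quotient.liftₐ _ ((Ideal.Quotient.mkₐ R _).comp q)
      fun x hx => Ideal.Quotient.eq_zero_iff_mem.mpr (map_mem_map I q hx)
  have hmod : (Ideal.Quotient.mkₐ R (I.map (algebraMap R B'))).comp η = (qI.comp γ).comp π := by
    refine MvPolynomial.algHom_ext fun i => ?_
    simp only [η, AlgHom.comp_apply, aeval_X, Ideal.Quotient.mkₐ_eq_mk, ← hb i, qI]
    change Ideal.Quotient.mk _ (C (b i) - _) = Ideal.Quotient.mk _ (q (b i))
    refine Ideal.Quotient.eq.mpr ?_
    change C (b i) - _ - C (b i) ∈ _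
    rw [sub_sub_cancel_left]
    refine neg_mem (sum_mem fun t _ => ?_)
    rw [Algebra.smul_def]
    exact Ideal.mul_mem_right _ _ (Ideal.mem_map_of_mem _ (hr i t))
  have hf0 : ∀ l, π (f l) = 0 := fun l => by
    have : f l ∈ RingHom.ker π.toRingHom := hf ▸ Ideal.subset_span ⟨l, rfl⟩
    exact this
  have hJ : J ≤ I.map (algebraMap R B') := Ideal.span_le.mpr (by
    rintro _ ⟨l, rfl⟩
    refine Ideal.Quotient.eq_zero_iff_mem.mp ?_
    refine (AlgHom.congr_fun hmod (f l)).trans ?_
    simp [hf0])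
  let g : A →ₐ[R] B' ⧸ J := AlgHom.liftOfSurjective π hπ ((Ideal.Quotient.mkₐ R J).comp η) (fun v hv => by
    have hle : Ideal.span (Set.range f) ≤ RingHom.ker ((Ideal.Quotient.mkₐ R J).comp η) := by
      rw [Ideal.span_le]
      rintro _ ⟨l, rfl⟩
      exact Ideal.Quotient.eq_zero_iff_mem.mpr (Ideal.subset_span ⟨l, rfl⟩)
    exact hle ((SetLike.ext_iff.mp hf v).mpr hv))
  let k : (B' ⧸ J) →ₐ[R] Λ := Ideal.Quotient.liftₐ J β' (fun x hx => by
    refine (Ideal.span_le (I := RingHom.ker β')).mpr ?_ hx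
    rintro _ ⟨l, rfl⟩
    refine (AlgHom.congr_fun hβη (f l)).trans ?_
    simp [hf0])
  refine ⟨B', inferInstance, inferInstance, inferInstance, J, hJ,
    ⟨Finset.univ.image (fun l => η (f l)), by simp [J]⟩, g, k, ?_⟩
  apply AlgHom.ext
  intro a
  obtain ⟨v, rfl⟩ := hπ a
  rw [AlgHom.comp_apply, AlgHom.liftOfSurjective_apply]
  exact AlgHom.congr_fun hβη v

theorem lift_twice [Module.Flat R Λ] (I : Ideal R) (hI : I ^ 2 = ⊥)
    (h : Smoothing.IndSmooth (R ⧸ I) (Λ ⧸ I.map (algebraMap R Λ)))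
    {B : Type u} [CommRing B] [Algebra R B] [Algebra.Smooth R B] (φ : B →ₐ[R] Λ) (J : Ideal B)
    (hJ : J ≤ I.map (algebraMap R B)) (hJfg : J.FG) (hφJ : ∀ x ∈ J, φ x = 0) :
    ∃ (B' : Type u) (_ : CommRing B') (_ : Algebra R B'), Algebra.Smooth R B' ∧
      ∃ (α : B →ₐ[R] B') (β : B' →ₐ[R] Λ), (∀ x ∈ J, α x = 0) ∧
        ∀ b : B, β (α b) - φ b ∈ I.map (algebraMap R Λ) := by
  classical
  obtain ⟨L, j, hj⟩ := Submodule.fg_iff_exists_fin_generating_family.mp hJfg
  have hjJ : ∀ l, j l ∈ J := fun l => hj ▸ Submodule.subset_span ⟨l, rfl⟩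
  choose m r c hr hc using fun l => exists_sum_of_mem_map I _ (hJ (hjJ l))
  have hrel : ∀ l, ∑ t, r l t • φ (c l t) = 0 := fun l => by
    rw [← hφJ _ (hjJ l), hc l, map_sum]
    exact Finset.sum_congr rfl fun t _ => (map_smul φ _ _).symm
  choose K a lam hlam hra using fun l => Module.Flat.isTrivialRelation_of_sum_smul_eq_zero (R := R) (M := Λ) (hrel l)
  let σ := Σ l, Fin (K l)
  let rels : (Σ l, Fin (m l)) → MvPolynomial σ B := fun p =>
    C (c p.1 p.2) - ∑ q, a p.1 p.2 q • X (⟨p.1, q⟩ : σ)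
  let A := MvPolynomial σ B ⧸ Ideal.span (Set.range rels)
  haveI : Algebra.FinitePresentation R (MvPolynomial σ B) :=
    Algebra.FinitePresentation.trans R B _
  haveI : Algebra.FinitePresentation R A :=
    Algebra.FinitePresentation.quotient (Submodule.fg_span (Set.finite_range _))
  let φ' : MvPolynomial σ B →ₐ[R] Λ :=
    { toRingHom := eval₂Hom φ.toRingHom fun s => lam s.1 s.2
      commutes' := fun x => by
        change eval₂Hom φ.toRingHom _ (algebraMap R (MvPolynomial σ B) x) = _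
        rw [IsScalarTower.algebraMap_apply R B (MvPolynomial σ B), MvPolynomial.algebraMap_eq, eval₂Hom_C]
        exact φ.commutes x }
  let ψ : A →ₐ[R] Λ := Ideal.Quotient.liftₐ _ φ' (fun x hx => by
    refine (Ideal.span_le (I := RingHom.ker φ')).mpr ?_ hx
    rintro _ ⟨⟨l, t⟩, rfl⟩
    simp only [rels, SetLike.mem_coe, RingHom.mem_ker, map_sub, map_sum, map_smul]
    have e1 : ∀ q, φ' (X (⟨l, q⟩ : σ)) = lam l q := fun q => eval₂_X _ _ _
    have e2 : φ' (C (c l t)) = φ (c l t) := eval₂_C _ _ _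
    rw [sub_eq_zero, e2]
    exact (hlam l t).trans (Finset.sum_congr rfl fun q _ => by rw [e1]))
  obtain ⟨B', _, _, hB', γ, β, hcomp⟩ := exists_smooth_mod I hI h ψ
  haveI := hB'
  let inc : B →ₐ[R] A := (Ideal.Quotient.mkₐ R _).comp (IsScalarTower.toAlgHom R B (MvPolynomial σ B))
  obtain ⟨α, hα⟩ := Algebra.FormallySmooth.comp_surjective R B (I.map (algebraMap R B'))
    (by rw [← Ideal.map_pow, hI, Ideal.map_bot]) (γ.comp inc)
  have hα' : ∀ b, Ideal.Quotient.mk _ (α b) = γ (inc b) := fun b => AlgHom.congr_fun hα b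
  refine ⟨B', inferInstance, inferInstance, hB', α, β, ?_, fun b => ?_⟩
  · choose z hz using fun s : σ => Ideal.Quotient.mk_surjective (γ (Ideal.Quotient.mk _ (X s)))
    have hgen : ∀ l, α (j l) = 0 := by
      intro l
      have hd : ∀ t, α (c l t) - ∑ q, a l t q • z ⟨l, q⟩ ∈ I.map (algebraMap R B') := fun t => by
        refine Ideal.Quotient.eq_zero_iff_mem.mp ?_
        rw [map_sub, map_sum, hα']
        have e : ∀ q, Ideal.Quotient.mk (I.map (algebraMap R B')) (a l t q • z ⟨l, q⟩) =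
            γ (Ideal.Quotient.mkₐ R _ (a l t q • X (⟨l, q⟩ : σ))) := fun q => by
          change Ideal.Quotient.mkₐ R (I.map (algebraMap R B')) (a l t q • z ⟨l, q⟩) = _
          rw [map_smul, map_smul, map_smul]
          exact congrArg _ (hz _)
        simp only [e, ← map_sum, ← map_sub, inc, AlgHom.comp_apply]
        have h0 : Ideal.Quotient.mkₐ R (Ideal.span (Set.range rels)) (rels ⟨l, t⟩) = 0 :=
          Ideal.Quotient.eq_zero_iff_mem.mpr (Ideal.subset_span ⟨⟨l, t⟩, rfl⟩)
        rw [← map_zero γ, ← h0]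
        congr 1
      calc α (j l) = ∑ t, r l t • α (c l t) := by
            rw [hc l, map_sum]; exact Finset.sum_congr rfl fun t _ => map_smul α _ _
        _ = ∑ t, r l t • ∑ q, a l t q • z ⟨l, q⟩ := by
            refine Finset.sum_congr rfl fun t _ => ?_
            rw [← sub_eq_zero, ← smul_sub, Algebra.smul_def]
            exact map_mul_eq_zero I hI (Ideal.mem_map_of_mem _ (hr l t)) (hd t)
        _ = 0 := by
            simp only [Finset.smul_sum, smul_smul]
            rw [Finset.sum_comm]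
            refine Finset.sum_eq_zero fun q _ => ?_
            rw [← Finset.sum_smul, hra l q, zero_smul]
    intro x hx
    refine (Ideal.span_le (I := RingHom.ker α)).mpr ?_ ((SetLike.ext_iff.mp hj x).mpr hx)
    rintro _ ⟨l, rfl⟩
    exact hgen l
  · have h1 := hcomp (inc b) (α b) (hα' b)
    have e : ψ (inc b) = φ b := eval₂_C _ _ _
    rwa [e] at h1

/-- Correcting a map out of a smooth algebra which is right modulo a square zero ideal. -/
theorem exists_correction (I : Ideal R) (hI : I ^ 2 = ⊥)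
    {B : Type u} [CommRing B] [Algebra R B] [Algebra.Smooth R B] (φ : B →ₐ[R] Λ) (J : Ideal B)
    (hJ : J ≤ I.map (algebraMap R B))
    {B' : Type u} [CommRing B'] [Algebra R B'] [Algebra.Smooth R B'] (α : B →ₐ[R] B') (β : B' →ₐ[R] Λ)
    (hαJ : ∀ x ∈ J, α x = 0) (hαβ : ∀ b : B, β (α b) - φ b ∈ I.map (algebraMap R Λ)) :
    ∃ (B'' : Type u) (_ : CommRing B'') (_ : Algebra R B''), Algebra.Smooth R B'' ∧
      ∃ (α' : B →ₐ[R] B'') (β' : B'' →ₐ[R] Λ), (∀ x ∈ J, α' x = 0) ∧ β'.comp α' = φ := by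
  classical
  letI : Algebra B Λ := φ.toRingHom.toAlgebra
  haveI : IsScalarTower R B Λ := IsScalarTower.of_algebraMap_eq fun x => (φ.commutes x).symm
  let IL := I.map (algebraMap R Λ)
  let D : Derivation R B Λ := Derivation.mk' (φ.toLinearMap - (β.comp α).toLinearMap) fun x y => by
    simp only [LinearMap.sub_apply, AlgHom.toLinearMap_apply, map_mul, AlgHom.comp_apply]
    rw [Algebra.smul_def, Algebra.smul_def]
    change φ x * φ y - β (α x) * β (α y) = φ x * (φ y - β (α y)) + φ y * (φ x - β (α x))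
    have h0 := map_mul_eq_zero I hI (hαβ x) (hαβ y)
    linear_combination -h0
  have hD : ∀ x, D.liftKaehlerDifferential x ∈ IL := by
    intro x
    induction (KaehlerDifferential.span_range_derivation R B).symm ▸ Submodule.mem_top (x := x) using
      Submodule.span_induction with
    | mem y hy =>
      obtain ⟨b, rfl⟩ := hy
      rw [Derivation.liftKaehlerDifferential_comp_D]
      change φ b - β (α b) ∈ IL
      rw [← neg_sub]
      exact neg_mem (hαβ b)
    | zero => rw [map_zero]; exact zero_mem _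
    | add y z _ _ hy hz => rw [map_add]; exact add_mem hy hz
    | smul b y _ hy => rw [map_smul, Algebra.smul_def]; exact Ideal.mul_mem_left _ _ hy
  obtain ⟨n, π, hπ⟩ := Module.Finite.exists_fin' B Ω[B⁄R]
  haveI : Module.Projective B Ω[B⁄R] := inferInstance
  obtain ⟨s, hs⟩ := Module.projective_lifting_property π LinearMap.id hπ
  choose m r lam hr hlam using fun q : Fin n =>
    exists_sum_of_mem_map I _ (hD (π (Pi.single q 1)))
  let σ := Σ q, Fin (m q)
  let B'' := MvPolynomial σ B'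
  haveI : Algebra.FinitePresentation B' B'' := inferInstanceAs (Algebra.FinitePresentation B' (MvPolynomial σ B'))
  haveI : Algebra.Smooth B' B'' := { formallySmooth := inferInstance, finitePresentation := inferInstance }
  haveI : Algebra.Smooth R B'' := Algebra.Smooth.comp R B' B''
  let w : Fin n → B'' := fun q => ∑ t, r q t • X (⟨q, t⟩ : σ)
  have hw : ∀ q, w q ∈ I.map (algebraMap R B'') := fun q => sum_mem fun t _ => by
    rw [Algebra.smul_def]
    exact Ideal.mul_mem_right _ _ (Ideal.mem_map_of_mem _ (hr q t))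
  let q0 : B' →ₐ[R] B'' := IsScalarTower.toAlgHom R B' B''
  let δ : B → B'' := fun b => ∑ q, q0 (α (s (KaehlerDifferential.D R B b) q)) * w q
  have hδ : ∀ b, δ b ∈ I.map (algebraMap R B'') := fun b =>
    sum_mem fun q _ => Ideal.mul_mem_left _ _ (hw q)
  have hδmul : ∀ x y, δ (x * y) = q0 (α x) * δ y + q0 (α y) * δ x := fun x y => by
    change ∑ q, _ = _ * (∑ q, _) + _ * (∑ q, _)
    rw [Finset.mul_sum, Finset.mul_sum, ← Finset.sum_add_distrib]
    refine Finset.sum_congr rfl fun q _ => ?_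
    simp only [Derivation.leibniz, map_add, map_smul, Pi.add_apply, Pi.smul_apply, smul_eq_mul, map_mul]
    ring
  let α' : B →ₐ[R] B'' :=
    { toFun := fun b => q0 (α b) + δ b
      map_one' := by simp [δ]
      map_mul' := fun x y => by
        have h0 := map_mul_eq_zero I hI (hδ x) (hδ y)
        change q0 (α (x * y)) + δ (x * y) = (q0 (α x) + δ x) * (q0 (α y) + δ y)
        rw [hδmul, map_mul, map_mul]
        linear_combination -h0
      map_zero' := by simp [δ]
      map_add' := fun x y => by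
        change q0 (α (x + y)) + δ (x + y) = (q0 (α x) + δ x) + (q0 (α y) + δ y)
        simp only [δ, map_add, Pi.add_apply, add_mul, Finset.sum_add_distrib]
        ring
      commutes' := fun x => by
        change q0 (α (algebraMap R B x)) + δ (algebraMap R B x) = _
        simp only [δ, Derivation.map_algebraMap, map_zero, Pi.zero_apply, zero_mul, Finset.sum_const_zero,
          add_zero, AlgHom.commutes] }
  let β' : B'' →ₐ[R] Λ :=
    { toRingHom := eval₂Hom β.toRingHom fun p => lam p.1 p.2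
      commutes' := fun x => by
        change eval₂Hom β.toRingHom _ (algebraMap R B'' x) = _
        rw [IsScalarTower.algebraMap_apply R B' B'', MvPolynomial.algebraMap_eq, eval₂Hom_C]
        exact β.commutes x }
  refine ⟨B'', inferInstance, inferInstance, inferInstance, α', β', fun x hx => ?_, ?_⟩
  · obtain ⟨n', r', b', hr', rfl⟩ := exists_sum_of_mem_map I x (hJ hx)
    change q0 (α _) + δ _ = 0
    rw [hαJ _ hx, map_zero, zero_add]
    simp only [δ, map_sum, Derivation.map_smul, map_smul, Pi.smul_apply, Finset.sum_apply,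
      LinearMap.map_smul_of_tower]
    refine Finset.sum_eq_zero fun q _ => ?_
    rw [Finset.sum_mul]
    refine Finset.sum_eq_zero fun t _ => ?_
    rw [smul_mul_assoc, Algebra.smul_def]
    exact map_mul_eq_zero I hI (Ideal.mem_map_of_mem _ (hr' t)) (Ideal.mul_mem_left _ _ (hw q))
  · apply AlgHom.ext
    intro b
    change β' (q0 (α b) + δ b) = φ b
    have e1 : ∀ y, β' (q0 y) = β y := fun y => eval₂_C _ _ _
    have e2 : ∀ q, β' (w q) = D.liftKaehlerDifferential (π (Pi.single q 1)) := fun q => by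
      rw [hlam q]
      simp only [w, map_sum, map_smul]
      exact Finset.sum_congr rfl fun t _ => congrArg _ (eval₂_X _ _ _)
    rw [map_add, e1]
    simp only [δ, map_sum, map_mul, e1, e2]
    have e3 : φ b - β (α b) = ∑ q, φ (s (KaehlerDifferential.D R B b) q) *
        D.liftKaehlerDifferential (π (Pi.single q 1)) := by
      conv_lhs => rw [show φ b - β (α b) = D b from rfl, ← Derivation.liftKaehlerDifferential_comp_D,
        ← LinearMap.id_apply (R := B) (KaehlerDifferential.D R B b), ← hs, LinearMap.comp_apply,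
        pi_eq_sum_univ' (s (KaehlerDifferential.D R B b))]
      simp only [map_sum, map_smul]
      exact Finset.sum_congr rfl fun q _ => Algebra.smul_def _ _
    rw [← sub_eq_zero]
    calc _ = (∑ q, (β (α (s (KaehlerDifferential.D R B b) q)) - φ (s (KaehlerDifferential.D R B b) q)) *
          D.liftKaehlerDifferential (π (Pi.single q 1))) := by
          simp only [sub_mul, Finset.sum_sub_distrib, ← e3]
          ring
      _ = 0 := Finset.sum_eq_zero fun q _ => map_mul_eq_zero I hI (hαβ _) (hD _)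

theorem indSmooth_of_sq_zero [Module.Flat R Λ] (I : Ideal R) (hI : I ^ 2 = ⊥)
    (h : Smoothing.IndSmooth (R ⧸ I) (Λ ⧸ I.map (algebraMap R Λ))) : Smoothing.IndSmooth R Λ := by
  intro A _ _ hA φ
  haveI := hA
  obtain ⟨B, _, _, hB, J, hJ, hJfg, g, k, hk⟩ := lift_once I hI h φ
  haveI := hB
  let φB : B →ₐ[R] Λ := k.comp (Ideal.Quotient.mkₐ R J)
  have hφJ : ∀ x ∈ J, φB x = 0 := fun x hx => by
    change k (Ideal.Quotient.mk J x) = 0
    rw [Ideal.Quotient.eq_zero_iff_mem.mpr hx, map_zero]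
  obtain ⟨B', _, _, hB', α, β, hαJ, hαβ⟩ := lift_twice I hI h φB J hJ hJfg hφJ
  haveI := hB'
  obtain ⟨B'', _, _, hB'', α', β', hα'J, hα'β⟩ := exists_correction I hI φB J hJ α β hαJ hαβ
  refine ⟨B'', inferInstance, inferInstance, hB'', (Ideal.Quotient.liftₐ J α' hα'J).comp g, β',
    AlgHom.ext fun a => ?_⟩
  obtain ⟨b, hb⟩ := Ideal.Quotient.mk_surjective (g a)
  rw [← hk]
  change β' (Ideal.Quotient.liftₐ J α' hα'J (g a)) = k (g a)
  rw [← hb]
  exact AlgHom.congr_fun hα'β b

/-- Ind-smoothness transfers along isomorphisms of base and algebra. -/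
theorem indSmooth_of_bijective {R' Λ' : Type u} [CommRing R'] [Algebra R R'] [CommRing Λ'] [Algebra R Λ']
    [Algebra R' Λ'] [IsScalarTower R R' Λ'] (hb : Function.Bijective (algebraMap R R'))
    (e : Λ ≃ₐ[R] Λ') (h : Smoothing.IndSmooth R Λ) : Smoothing.IndSmooth R' Λ' := by
  intro A _ _ hA f
  haveI := hA
  letI : Algebra R A := ((algebraMap R' A).comp (algebraMap R R')).toAlgebra
  haveI : IsScalarTower R R' A := IsScalarTower.of_algebraMap_eq' rfl
  haveI : Algebra.FinitePresentation R R' :=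
    Algebra.FinitePresentation.equiv (AlgEquiv.ofBijective (Algebra.ofId R R') hb)
  haveI : Algebra.FinitePresentation R A := Algebra.FinitePresentation.trans R R' A
  obtain ⟨B, _, _, hB, g, k, hgk⟩ := h A inferInstance (e.symm.toAlgHom.comp (f.restrictScalars R))
  haveI := hB
  let g' : A →ₐ[R'] R' ⊗[R] B :=
    { toRingHom := ((Algebra.TensorProduct.includeRight : B →ₐ[R] R' ⊗[R] B).comp g).toRingHom
      commutes' := fun x => by
        obtain ⟨y, rfl⟩ := hb.2 x
        rw [← IsScalarTower.algebraMap_apply R R' A, ← IsScalarTower.algebraMap_apply R R' (R' ⊗[R] B)]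
        exact ((Algebra.TensorProduct.includeRight : B →ₐ[R] R' ⊗[R] B).comp g).commutes y }
  let k' : R' ⊗[R] B →ₐ[R'] Λ' :=
    Algebra.TensorProduct.lift (Algebra.ofId _ _) (e.toAlgHom.comp k) fun _ _ => Commute.all _ _
  refine ⟨R' ⊗[R] B, inferInstance, inferInstance, inferInstance, g', k', AlgHom.ext fun a => ?_⟩
  change k' ((1 : R') ⊗ₜ g a) = f a
  rw [Algebra.TensorProduct.lift_tmul, map_one, one_mul]
  change e (k (g a)) = f a
  rw [← AlgHom.comp_apply, hgk]
  exact e.apply_symm_apply (f a)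

theorem indSmooth_of_nilpotent (k : ℕ) : ∀ {R Λ : Type u} [CommRing R] [CommRing Λ] [Algebra R Λ]
    [Module.Flat R Λ] (I : Ideal R), I ^ (k + 1) = ⊥ →
    Smoothing.IndSmooth (R ⧸ I) (Λ ⧸ I.map (algebraMap R Λ)) → Smoothing.IndSmooth R Λ := by
  induction k with
  | zero =>
    intro R Λ _ _ _ _ I hI h
    exact indSmooth_of_sq_zero I (by rw [pow_one] at hI; rw [hI, sq, Ideal.bot_mul]) h
  | succ k ih =>
    intro R Λ _ _ _ _ I hI h
    let K := I ^ (k + 1)
    have hK : K ^ 2 = ⊥ := by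
      rw [← pow_mul]
      exact le_bot_iff.mp ((Ideal.pow_le_pow_right (by omega)).trans hI.le)
    refine indSmooth_of_sq_zero K hK ?_
    let I' : Ideal (R ⧸ K) := I.map (Ideal.Quotient.mk K)
    haveI : Module.Flat (R ⧸ K) (Λ ⧸ K.map (algebraMap R Λ)) :=
      Module.Flat.of_linearEquiv ((Algebra.TensorProduct.quotIdealMapEquivQuotTensor Λ K).toLinearEquiv)
    refine ih I' (by rw [← Ideal.map_pow, Ideal.map_quotient_self]) ?_
    have hKI : K ≤ I := Ideal.pow_le_self (by omega)
    let e1 : ((R ⧸ K) ⧸ I') ≃ₐ[R] R ⧸ I := DoubleQuot.quotQuotEquivQuotOfLEₐ R hKI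
    letI : Algebra (R ⧸ I) ((R ⧸ K) ⧸ I') := e1.symm.toAlgHom.toRingHom.toAlgebra
    have hle : K.map (algebraMap R Λ) ≤ I.map (algebraMap R Λ) := Ideal.map_mono hKI
    have hmap : I'.map (algebraMap (R ⧸ K) (Λ ⧸ K.map (algebraMap R Λ))) =
        (I.map (algebraMap R Λ)).map (Ideal.Quotient.mk (K.map (algebraMap R Λ))) := by
      rw [Ideal.map_map, Ideal.map_map]
      rfl
    let e2 : (Λ ⧸ I.map (algebraMap R Λ)) ≃ₐ[R]
        (Λ ⧸ K.map (algebraMap R Λ)) ⧸ I'.map (algebraMap (R ⧸ K) (Λ ⧸ K.map (algebraMap R Λ))) :=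
      (DoubleQuot.quotQuotEquivQuotOfLEₐ R hle).symm.trans (Ideal.quotientEquivAlgOfEq R hmap.symm)
    letI : Algebra (R ⧸ I) ((Λ ⧸ K.map (algebraMap R Λ)) ⧸ I'.map (algebraMap (R ⧸ K) (Λ ⧸ K.map (algebraMap R Λ)))) :=
      ((algebraMap ((R ⧸ K) ⧸ I') ((Λ ⧸ K.map (algebraMap R Λ)) ⧸ I'.map (algebraMap (R ⧸ K) (Λ ⧸ K.map (algebraMap R Λ))))).comp e1.symm.toAlgHom.toRingHom).toAlgebra
    haveI : IsScalarTower (R ⧸ I) ((R ⧸ K) ⧸ I')
        ((Λ ⧸ K.map (algebraMap R Λ)) ⧸ I'.map (algebraMap (R ⧸ K) (Λ ⧸ K.map (algebraMap R Λ)))) :=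
      IsScalarTower.of_algebraMap_eq' rfl
    have hc : ∀ x : R ⧸ I, e2 (algebraMap (R ⧸ I) (Λ ⧸ I.map (algebraMap R Λ)) x) =
        algebraMap (R ⧸ I) _ x := by
      intro x
      obtain ⟨y, rfl⟩ := Ideal.Quotient.mk_surjective x
      rw [show algebraMap (R ⧸ I) (Λ ⧸ I.map (algebraMap R Λ)) (Ideal.Quotient.mk I y) =
        algebraMap R (Λ ⧸ I.map (algebraMap R Λ)) y from rfl, AlgEquiv.commutes]
      change _ = algebraMap ((R ⧸ K) ⧸ I') ((Λ ⧸ K.map (algebraMap R Λ)) ⧸ I'.map (algebraMap (R ⧸ K) (Λ ⧸ K.map (algebraMap R Λ)))) (e1.symm (algebraMap R (R ⧸ I) y))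
      rw [AlgEquiv.commutes]
      rfl
    exact indSmooth_of_bijective e1.symm.bijective { e2 with commutes' := hc } h

end Groth.Agent.IndSmoothLift
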